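import Groth.Prelude
import Groth.Agent.BlowCompLib.Flat

/-! Effective Cartier divisors on a normal scheme are determined by their pullback along a proper dominant map. -/

set_option autoImplicit false
set_option linter.style.haveILetI false
set_option backward.isDefEq.respectTransparency false

universe u
open CategoryTheory AlgebraicGeometry Opposite TopologicalSpace

noncomputable section

namespace Groth.Agent.DivNormalLib

variable {S S' : Scheme.{u}}

theorem isUnit_res_of_disjoint (D : S.IdealSheafData) {V : S.affineOpens} {g : Γ(S, V.1)}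
    (hg : D.ideal V = Ideal.span {g}) {W : S.Opens} (hW : W ≤ V.1)
    (hd : (D.support : Set S) ⊆ (W : Set S)ᶜ) : IsUnit ((S.presheaf.map (homOfLE hW).op).hom g) := by
  have hle : W ≤ S.basicOpen g := by
    intro x hx
    by_contra hxg
    have h1 : x ∈ (D.support : Set S) ∩ V.1 := by
      rw [Scheme.IdealSheafData.coe_support_inter, hg, Scheme.zeroLocus_span, Scheme.zeroLocus_singleton]
      exact ⟨hxg, hW hx⟩
    exact hd h1.1 hx
  have h1 : IsUnit ((S.presheaf.map (homOfLE (S.basicOpen_le g)).op ≫ S.presheaf.map (homOfLE hle).op).hom g) :=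
    (RingedSpace.isUnit_res_basicOpen S.toRingedSpace g).map (S.presheaf.map (homOfLE hle).op).hom
  rw [← Functor.map_comp] at h1
  exact h1

theorem appLE_res {f : S' ⟶ S} {U : S.Opens} {V W : S'.Opens} (e : V ≤ f ⁻¹ᵁ U) (h : W ≤ V) (r : Γ(S, U)) :
    (S'.presheaf.map (homOfLE h).op).hom ((f.appLE U V e).hom r) = (f.appLE U W (h.trans e)).hom r := by
  rw [← RingHom.comp_apply, ← CommRingCat.hom_comp, Scheme.Hom.appLE_map]

theorem nzd_map_iso {A B : CommRingCat.{u}} (φ : A ⟶ B) [IsIso φ] {x : A} (hx : x ∈ nonZeroDivisors A) :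
    φ.hom x ∈ nonZeroDivisors B := by
  rw [mem_nonZeroDivisors_iff_right]
  intro z hz
  obtain ⟨z', rfl⟩ := (ConcreteCategory.bijective_of_isIso φ).2 z
  have h0 : φ.hom (z' * x) = φ.hom 0 := by rw [map_mul, map_zero]; exact hz
  exact (congrArg φ.hom (mem_nonZeroDivisors_iff_right.1 hx z' ((ConcreteCategory.bijective_of_isIso φ).1 h0))).trans
    (map_zero _)

theorem span_le_of_comap_eq [IsLocallyNoetherian S]
    (hnorm : ∀ x : S, IsDomain (S.presheaf.stalk x) ∧ IsIntegrallyClosed (S.presheaf.stalk x))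
    (f : S' ⟶ S) [IsProper f] (hdom : f.ker = ⊥) (U : S.Opens)
    (hU' : CInt.IsSchematicallyDense (f ⁻¹ᵁ U)) (D E : S.IdealSheafData) {V : S.affineOpens}
    {g h : Γ(S, V.1)} (hh : h ∈ nonZeroDivisors Γ(S, V.1)) (hDg : D.ideal V = Ideal.span {g})
    (hEh : E.ideal V = Ideal.span {h}) (hEU : (E.support : Set S) ⊆ (U : Set S)ᶜ)
    (hle : D.comap f = E.comap f) :
    Ideal.span {g} ≤ Ideal.span {h} := by
  let O := f ⁻¹ᵁ V.1
  let res : ∀ {W : S'.Opens}, W ≤ O → Γ(S, V.1) →+* Γ(S', W) := fun {W} e => (f.appLE V.1 W e).hom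
  have hreg : ∀ {W : S'.Opens} (e : W ≤ O) (s : Γ(S', W)), res e h * s = 0 → s = 0 := by
    intro W e s hs
    apply hU' W
    rw [map_zero]
    have hu : IsUnit ((S'.presheaf.map (homOfLE (inf_le_left : W ⊓ f ⁻¹ᵁ U ≤ W)).op).hom (res e h)) := by
      have h1 : (S'.presheaf.map (homOfLE (inf_le_left : W ⊓ f ⁻¹ᵁ U ≤ W)).op).hom (res e h) =
          (f.appLE (V.1 ⊓ U) (W ⊓ f ⁻¹ᵁ U) (inf_le_inf_right _ e)).hom
            ((S.presheaf.map (homOfLE (inf_le_left : V.1 ⊓ U ≤ V.1)).op).hom h) := by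
        simp only [res, ← CommRingCat.comp_apply, Scheme.Hom.appLE_map, Scheme.Hom.map_appLE]
      rw [h1]
      exact (isUnit_res_of_disjoint E hEh inf_le_left (hEU.trans (Set.compl_subset_compl.2 fun x hx => hx.2))).map _
    have h2 := congrArg (S'.presheaf.map (homOfLE (inf_le_left : W ⊓ f ⁻¹ᵁ U ≤ W)).op).hom hs
    rw [map_mul, map_zero] at h2
    exact hu.mul_right_eq_zero.1 h2
  have hloc : ∀ x : O, ∃ (W : S'.affineOpens) (e : W.1 ≤ O), x.1 ∈ W.1 ∧ ∃ b : Γ(S', W.1), b * res e h = res e g := by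
    intro x
    obtain ⟨W, hxW, e⟩ := BlowCompLib.exists_affine_le f x.1 x.2
    refine ⟨W, e, hxW, Ideal.mem_span_singleton'.1 ?_⟩
    rw [← BlowCompLib.ideal_comap_span E f hEh W e, ← hle, BlowCompLib.ideal_comap_span D f hDg W e]
    exact Ideal.mem_span_singleton_self _
  choose W e hxW b hb using hloc
  obtain ⟨B₀, hB, -⟩ := S'.sheaf.existsUnique_gluing' (fun x : O => (W x).1) O (fun x => homOfLE (e x))
    (fun z hz => Opens.mem_iSup.2 ⟨⟨z, hz⟩, hxW ⟨z, hz⟩⟩) b (by
      intro x y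
      refine sub_eq_zero.1 (hreg ((inf_le_left).trans (e x)) _ ?_)
      rw [mul_sub, sub_eq_zero]
      have key : ∀ z (hle' : (W x).1 ⊓ (W y).1 ≤ (W z).1),
          res ((inf_le_left).trans (e x)) h * (S'.presheaf.map (homOfLE hle').op).hom (b z) =
            res ((inf_le_left).trans (e x)) g := by
        intro z hle'
        have h1 := congrArg (S'.presheaf.map (homOfLE hle').op).hom (hb z)
        rw [map_mul] at h1
        simp only [res, ← CommRingCat.comp_apply, Scheme.Hom.appLE_map] at h1 ⊢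
        rw [mul_comm]
        exact h1
      exact (key x inf_le_left).trans (key y inf_le_right).symm)
  let B : Γ(S', f ⁻¹ᵁ V.1) := B₀
  have hBg : (f.app V.1).hom h * B = (f.app V.1).hom g := by
    refine S'.sheaf.eq_of_locally_eq' (fun x : O => (W x).1) O (fun x => homOfLE (e x))
      (fun z hz => Opens.mem_iSup.2 ⟨⟨z, hz⟩, hxW ⟨z, hz⟩⟩) _ _ fun x => ?_
    show (S'.presheaf.map (homOfLE (e x)).op).hom _ = (S'.presheaf.map (homOfLE (e x)).op).hom _
    rw [map_mul, show (S'.presheaf.map (homOfLE (e x)).op).hom B = b x from hB x]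
    rw [Scheme.Hom.app_eq_appLE, appLE_res, appLE_res, mul_comm]
    exact hb x
  haveI : IsAffine V.1 := V.2
  haveI : UniversallyClosed (f ∣_ V.1) := inferInstance
  have hint : (f.app V.1).hom.IsIntegral := by
    have h1 := isIntegral_appTop_of_universallyClosed (f ∣_ V.1)
    have h2 : (f.app (V.1.ι ''ᵁ ⊤)).hom.IsIntegral := by
      rw [morphismRestrict_appTop] at h1
      have h3 := RingHom.IsIntegral.trans _ _ h1 (RingHom.isIntegral_of_surjective _
        (ConcreteCategory.bijective_of_isIso (inv (S'.presheaf.map (eqToHom (image_morphismRestrict_preimage f V.1 ⊤)).op))).2)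
      rw [← CommRingCat.hom_comp, Category.assoc, IsIso.hom_inv_id, Category.comp_id] at h3
      exact h3
    rwa [Scheme.Opens.ι_image_top] at h2
  obtain ⟨P, hP, hPB⟩ := hint B
  have hinj : Function.Injective (f.app V.1).hom := by
    rw [RingHom.injective_iff_ker_eq_bot, ← Scheme.Hom.ker_apply f V, hdom]
    rfl
  have hroot : (P.scaleRoots h).eval₂ (RingHom.id _) g = 0 := by
    apply hinj
    rw [map_zero, Polynomial.hom_eval₂, RingHom.comp_id, ← hBg, Polynomial.scaleRoots_eval₂_mul, hPB, mul_zero]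
  rw [Ideal.span_le, Set.singleton_subset_iff]
  refine V.2.mem_ideal_iff.mpr fun x hx => ?_
  let G := (S.presheaf.germ V.1 x hx).hom
  haveI := (hnorm x).1
  haveI := (hnorm x).2
  rw [Ideal.map_span, Set.image_singleton, Ideal.mem_span_singleton]
  letI := TopCat.Presheaf.algebra_section_stalk S.presheaf ⟨x, hx⟩
  haveI : IsLocalization.AtPrime (S.presheaf.stalk x) (V.2.primeIdealOf ⟨x, hx⟩).asIdeal := V.2.isLocalization_stalk ⟨x, hx⟩
  have hne : G h ≠ 0 := nonZeroDivisors.ne_zero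
    (IsLocalization.map_nonZeroDivisors_le (V.2.primeIdealOf ⟨x, hx⟩).asIdeal.primeCompl (S.presheaf.stalk x)
      ⟨h, hh, rfl⟩)
  let K := FractionRing (S.presheaf.stalk x)
  let ι := algebraMap (S.presheaf.stalk x) K
  have hι : ι (G h) ≠ 0 := fun e => hne (IsFractionRing.injective _ K (e.trans (map_zero ι).symm))
  have hK : P.eval₂ (ι.comp G) (ι (G g) / ι (G h)) = 0 := by
    have h1 : (P.scaleRoots h).eval₂ (ι.comp G) ((ι.comp G) h * (ι (G g) / ι (G h))) = 0 := by
      rw [RingHom.comp_apply, mul_div_cancel₀ _ hι]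
      have h2 := congrArg (ι.comp G) hroot
      rw [Polynomial.hom_eval₂, RingHom.comp_id, map_zero] at h2
      exact h2
    rw [Polynomial.scaleRoots_eval₂_mul] at h1
    exact (mul_eq_zero.1 h1).resolve_left (pow_ne_zero _ hι)
  have hi : IsIntegral (S.presheaf.stalk x) (ι (G g) / ι (G h)) :=
    ⟨P.map G, hP.map G, by rw [Polynomial.eval₂_map]; exact hK⟩
  obtain ⟨q, hq⟩ := IsIntegrallyClosed.isIntegral_iff.1 hi
  refine ⟨q, IsFractionRing.injective (S.presheaf.stalk x) K ?_⟩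
  rw [map_mul, hq, mul_div_cancel₀ _ hι]

theorem eq_of_comap_eq [IsLocallyNoetherian S]
    (hnorm : ∀ x : S, IsDomain (S.presheaf.stalk x) ∧ IsIntegrallyClosed (S.presheaf.stalk x))
    (f : S' ⟶ S) [IsProper f] (hdom : f.ker = ⊥) (U : S.Opens)
    (hU' : CInt.IsSchematicallyDense (f ⁻¹ᵁ U)) (D E : S.IdealSheafData)
    (hD : ∀ x : S, ∃ U : S.affineOpens, x ∈ (U : S.Opens) ∧ ∃ g : Γ(S, U), g ∈ nonZeroDivisors Γ(S, U) ∧ D.ideal U = Ideal.span {g})
    (hE : ∀ x : S, ∃ U : S.affineOpens, x ∈ (U : S.Opens) ∧ ∃ g : Γ(S, U), g ∈ nonZeroDivisors Γ(S, U) ∧ E.ideal U = Ideal.span {g})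
    (hDU : (D.support : Set S) ⊆ (U : Set S)ᶜ) (hEU : (E.support : Set S) ⊆ (U : Set S)ᶜ)
    (h : D.comap f = E.comap f) : D = E := by
  choose U₁ hx₁ g₁ hg₁ hD' using hD
  choose U₂ hx₂ g₂ hg₂ hE' using hE
  choose a c hac hxa using fun x => exists_basicOpen_le_affine_inter (U₁ x).2 (U₂ x).2 x ⟨hx₁ x, hx₂ x⟩
  refine Scheme.IdealSheafData.ext_of_iSup_eq_top (fun x => S.affineBasicOpen (a x))
    (top_le_iff.1 fun x _ => Opens.mem_iSup.2 ⟨x, hxa x⟩) fun x => ?_
  let V := S.affineBasicOpen (a x)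
  have hV₁ : V.1 ≤ (U₁ x).1 := S.basicOpen_le _
  have hV₂ : V.1 ≤ (U₂ x).1 := (show S.basicOpen (a x) ≤ _ from hac x ▸ S.basicOpen_le _)
  have nzd : ∀ {W : S.affineOpens} (r : Γ(S, W.1)) {g : Γ(S, W.1)}, g ∈ nonZeroDivisors Γ(S, W.1) →
      (S.presheaf.map (homOfLE (S.basicOpen_le r)).op).hom g ∈ nonZeroDivisors Γ(S, S.basicOpen r) := by
    intro W r g hg
    haveI := W.2.isLocalization_basicOpen r
    exact IsLocalization.map_nonZeroDivisors_le (Submonoid.powers r) _ ⟨g, hg, rfl⟩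
  have e₁ : D.ideal V = Ideal.span {(S.presheaf.map (homOfLE hV₁).op).hom (g₁ x)} := by
    rw [← D.map_ideal (U := V) (V := U₁ x) hV₁, hD', Ideal.map_span, Set.image_singleton]
    rfl
  have e₂ : E.ideal V = Ideal.span {(S.presheaf.map (homOfLE hV₂).op).hom (g₂ x)} := by
    rw [← E.map_ideal (U := V) (V := U₂ x) hV₂, hE', Ideal.map_span, Set.image_singleton]
    rfl
  have n₁ : (S.presheaf.map (homOfLE hV₁).op).hom (g₁ x) ∈ nonZeroDivisors Γ(S, V.1) := nzd (a x) (hg₁ x)
  have n₂ : (S.presheaf.map (homOfLE hV₂).op).hom (g₂ x) ∈ nonZeroDivisors Γ(S, V.1) := by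
    let φ := S.presheaf.map (eqToHom (hac x)).op
    have h1 := nzd (c x) (hg₂ x)
    have h2 : φ.hom ((S.presheaf.map (homOfLE (S.basicOpen_le (c x))).op).hom (g₂ x)) =
        (S.presheaf.map (homOfLE hV₂).op).hom (g₂ x) := by
      rw [← CommRingCat.comp_apply, ← Functor.map_comp]; rfl
    rw [← h2]
    exact nzd_map_iso φ h1
  rw [e₁, e₂]
  exact le_antisymm (span_le_of_comap_eq hnorm f hdom U hU' D E n₂ e₁ e₂ hEU h)
    (span_le_of_comap_eq hnorm f hdom U hU' E D n₁ e₂ e₁ hDU h.symm)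

end Groth.Agent.DivNormalLib
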